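import Cfsg.Agent.H663.AltD.Sets

/-!
# S5733 (BS-A1): even permutations without an invariant set of `k` points (helper281)

`alt_sets` : there are an absolute `c > 0` and `N0` such that for `n ≥ N0`, `1 ≤ k`, `2 k ≤ n` at least
`c |A_n|` elements of `A_n` leave no set of `k` points invariant.
-/

set_option autoImplicit false

namespace Cfsg.Agent.H281.BsAlt

open Equiv Equiv.Perm Cfsg.Agent.H663.AltD
open scoped Nat

variable {n t r k : ℕ}

/-! ### Permutations `u` on `t` points and `w` on the rest -/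

def mk2 (e : Fin t ⊕ Fin r ≃ Fin n) (u : Perm (Fin t)) (w : Perm (Fin r)) : Perm (Fin n) :=
  e.permCongr (Equiv.Perm.sumCongr u w)

theorem mk2_inl (e : Fin t ⊕ Fin r ≃ Fin n) (u : Perm (Fin t)) (w : Perm (Fin r)) (i : Fin t) :
    mk2 e u w (e (Sum.inl i)) = e (Sum.inl (u i)) := by
  simp [mk2, Equiv.permCongr_apply]

theorem mk2_inr (e : Fin t ⊕ Fin r ≃ Fin n) (u : Perm (Fin t)) (w : Perm (Fin r)) (i : Fin r) :
    mk2 e u w (e (Sum.inr i)) = e (Sum.inr (w i)) := by
  simp [mk2, Equiv.permCongr_apply]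

theorem sign_mk2 (e : Fin t ⊕ Fin r ≃ Fin n) (u : Perm (Fin t)) (w : Perm (Fin r)) :
    sign (mk2 e u w) = sign u * sign w := by
  rw [mk2, Equiv.Perm.sign_permCongr, Equiv.Perm.sign_sumCongr]

theorem mk2_pow_inl (e : Fin t ⊕ Fin r ≃ Fin n) (u : Perm (Fin t)) (w : Perm (Fin r)) (j : ℕ) (i : Fin t) :
    (mk2 e u w ^ j) (e (Sum.inl i)) = e (Sum.inl ((u ^ j) i)) := by
  induction j generalizing i with
  | zero => simp
  | succ j ih => rw [pow_succ, Perm.mul_apply, mk2_inl, ih, pow_succ, Perm.mul_apply]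

theorem mk2_pow_inr (e : Fin t ⊕ Fin r ≃ Fin n) (u : Perm (Fin t)) (w : Perm (Fin r)) (j : ℕ) (i : Fin r) :
    (mk2 e u w ^ j) (e (Sum.inr i)) = e (Sum.inr ((w ^ j) i)) := by
  induction j generalizing i with
  | zero => simp
  | succ j ih => rw [pow_succ, Perm.mul_apply, mk2_inr, ih, pow_succ, Perm.mul_apply]

theorem mk2_injective {e : Fin t ⊕ Fin r ≃ Fin n} {u u' : Perm (Fin t)} {w w' : Perm (Fin r)}
    (hg : mk2 e u w = mk2 e u' w') : u = u' ∧ w = w' := by
  constructor
  · ext i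
    have h1 := mk2_inl e u w i
    rw [hg, mk2_inl] at h1
    rw [Sum.inl_injective (e.injective h1)]
  · ext i
    have h1 := mk2_inr e u w i
    rw [hg, mk2_inr] at h1
    rw [Sum.inr_injective (e.injective h1)]

theorem exists_pow (u : Perm (Fin t)) (a : Fin t) : ∃ i, 0 < i ∧ i ≤ t ∧ (u ^ i) a = a := by
  classical
  have h1 : ∃ i ∈ Finset.range (t + 1), ∃ j ∈ Finset.range (t + 1), i ≠ j ∧ (u ^ i) a = (u ^ j) a := by
    apply Finset.exists_ne_map_eq_of_card_lt_of_maps_to (t := Finset.univ)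
    · rw [Finset.card_range, Finset.card_univ, Fintype.card_fin]
      omega
    · intro i _
      exact Finset.mem_coe.2 (Finset.mem_univ _)
  obtain ⟨i, hi, j, hj, hij, h2⟩ := h1
  rw [Finset.mem_range] at hi hj
  rcases lt_or_gt_of_ne hij with h3 | h3
  · refine ⟨j - i, by omega, by omega, ?_⟩
    have h4 : (u ^ i) ((u ^ (j - i)) a) = (u ^ i) a := by
      rw [← Perm.mul_apply, ← pow_add, Nat.add_sub_cancel' h3.le, h2]
    exact (u ^ i).injective h4
  · refine ⟨i - j, by omega, by omega, ?_⟩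
    have h4 : (u ^ j) ((u ^ (i - j)) a) = (u ^ j) a := by
      rw [← Perm.mul_apply, ← pow_add, Nat.add_sub_cancel' h3.le, h2]
    exact (u ^ j).injective h4

/-- the points on the cycles of length at most `k` -/
noncomputable def sh (k : ℕ) (g : Perm (Fin n)) : Finset (Fin n) :=
  open Classical in Finset.univ.filter fun a => ∃ i, 0 < i ∧ i ≤ k ∧ (g ^ i) a = a

theorem mem_sh {g : Perm (Fin n)} {a : Fin n} : a ∈ sh k g ↔ ∃ i, 0 < i ∧ i ≤ k ∧ (g ^ i) a = a := by
  simp [sh]

theorem sh_inl (e : Fin t ⊕ Fin r ≃ Fin n) (u : Perm (Fin t)) (w : Perm (Fin r)) (ht : t ≤ k) (i : Fin t) :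
    e (Sum.inl i) ∈ sh k (mk2 e u w) := by
  obtain ⟨j, h0, hj, h⟩ := exists_pow u i
  exact mem_sh.2 ⟨j, h0, hj.trans ht, by rw [mk2_pow_inl, h]⟩

theorem sh_inr {e : Fin t ⊕ Fin r ≃ Fin n} {u : Perm (Fin t)} {w : Perm (Fin r)} (hw : Good k w) (i : Fin r) :
    e (Sum.inr i) ∉ sh k (mk2 e u w) := by
  intro h
  obtain ⟨j, h0, hj, h⟩ := mem_sh.1 h
  rw [mk2_pow_inr] at h
  exact hw j h0 hj i (Sum.inr_injective (e.injective h))

theorem card_sh {e : Fin t ⊕ Fin r ≃ Fin n} {u : Perm (Fin t)} {w : Perm (Fin r)} (hw : Good k w) (ht : t ≤ k) :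
    (sh k (mk2 e u w)).card = t := by
  classical
  have h1 : sh k (mk2 e u w) = (Finset.univ : Finset (Fin t)).image fun i => e (Sum.inl i) := by
    ext a
    rw [Finset.mem_image]
    constructor
    · intro h
      obtain ⟨x, rfl⟩ := e.surjective a
      cases x with
      | inl x => exact ⟨x, Finset.mem_univ _, rfl⟩
      | inr x => exact absurd h (sh_inr hw x)
    · rintro ⟨i, -, rfl⟩
      exact sh_inl e u w ht i
  rw [h1, Finset.card_image_of_injective _ (fun i j hij => Sum.inl_injective (e.injective hij)), Finset.card_univ,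
    Fintype.card_fin]

/-- two descriptions of the same permutation -/
theorem exists_ab {e e' : Fin t ⊕ Fin r ≃ Fin n} {u u' : Perm (Fin t)} {w w' : Perm (Fin r)}
    (hw' : Good k w') (ht : t ≤ k) (hg : mk2 e u w = mk2 e' u' w') :
    ∃ α : Perm (Fin t), ∃ β : Perm (Fin r), e = (Equiv.Perm.sumCongr α β).trans e' := by
  have h2 : (e.trans e'.symm : Perm (Fin t ⊕ Fin r)) ∈ (sumCongrHom (Fin t) (Fin r)).range := by
    apply mem_sumCongrHom_range_of_perm_mapsTo_inl
    rintro _ ⟨i, rfl⟩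
    have h3 := sh_inl e u w ht i
    rw [hg] at h3
    rw [Equiv.trans_apply]
    obtain ⟨y, hy⟩ := e'.surjective (e (Sum.inl i))
    rw [← hy] at h3 ⊢
    rw [Equiv.symm_apply_apply]
    cases y with
    | inl y => exact ⟨y, rfl⟩
    | inr y => exact absurd h3 (sh_inr hw' y)
  obtain ⟨⟨α, β⟩, hh⟩ := h2
  refine ⟨α, β, ?_⟩
  have h5 : Equiv.Perm.sumCongr α β = (e.trans e'.symm : Perm (Fin t ⊕ Fin r)) := hh
  rw [h5]
  ext x
  simp

theorem count2 (hn : t + r = n) (ht : t ≤ k) :
    n ! * Nat.card {x : Perm (Fin t) × Perm (Fin r) // Good k x.2 ∧ sign x.1 * sign x.2 = 1} ≤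
      t ! * r ! * Nat.card {g : Perm (Fin n) // sign g = 1 ∧ (sh k g).card = t} := by
  classical
  have hE : Nat.card (Fin t ⊕ Fin r ≃ Fin n) = n ! := by
    have e0 : Fin t ⊕ Fin r ≃ Fin n := finSumFinEquiv.trans (finCongr hn)
    rw [Nat.card_eq_fintype_card, Fintype.card_equiv e0, Fintype.card_sum, Fintype.card_fin, Fintype.card_fin, hn]
  have hT : Nat.card (Perm (Fin t)) = t ! := by
    rw [Nat.card_eq_fintype_card, Fintype.card_perm, Fintype.card_fin]
  have hR : Nat.card (Perm (Fin r)) = r ! := by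
    rw [Nat.card_eq_fintype_card, Fintype.card_perm, Fintype.card_fin]
  rw [← hE, ← hR, ← hT, ← Nat.card_prod, ← Nat.card_prod, ← Nat.card_prod]
  let X := {x : Perm (Fin t) × Perm (Fin r) // Good k x.2 ∧ sign x.1 * sign x.2 = 1}
  let P := {g : Perm (Fin n) // ∃ (e : Fin t ⊕ Fin r ≃ Fin n) (x : X), g = mk2 e x.1.1 x.1.2}
  have hP : Nat.card P ≤ Nat.card {g : Perm (Fin n) // sign g = 1 ∧ (sh k g).card = t} := by
    refine Nat.card_le_card_of_injective (fun g => ⟨g.1, ?_, ?_⟩) ?_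
    · obtain ⟨e, x, h⟩ := g.2
      rw [h, sign_mk2, x.2.2]
    · obtain ⟨e, x, h⟩ := g.2
      rw [h, card_sh x.2.1 ht]
    · intro g g' h
      exact Subtype.ext (congrArg (fun y => y.1) h)
  rw [Nat.card_prod (Perm (Fin t) × Perm (Fin r))]
  refine le_trans ?_ (Nat.mul_le_mul_left _ hP)
  rw [← Nat.card_prod]
  let f : (Fin t ⊕ Fin r ≃ Fin n) × X → P := fun x => ⟨mk2 x.1 x.2.1.1 x.2.1.2, x.1, x.2, rfl⟩
  have hc : ∀ s : P, ∃ e : Fin t ⊕ Fin r ≃ Fin n, ∃ x : X, s.1 = mk2 e x.1.1 x.1.2 := fun s => s.2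
  choose E Y hs using hc
  have hab : ∀ x : (Fin t ⊕ Fin r ≃ Fin n) × X,
      ∃ α : Perm (Fin t), ∃ β : Perm (Fin r), x.1 = (Equiv.Perm.sumCongr α β).trans (E (f x)) := by
    intro x
    have h1 := hs (f x)
    exact exists_ab (Y (f x)).2.1 ht h1
  choose α β hαβ using hab
  refine Nat.card_le_card_of_injective (fun x => ((α x, β x), f x)) ?_
  intro x y hxy
  have h1 : α x = α y := congrArg (fun z => z.1.1) hxy
  have h1' : β x = β y := congrArg (fun z => z.1.2) hxy
  have h2 : f x = f y := congrArg Prod.snd hxy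
  have h3 : x.1 = y.1 := by rw [hαβ x, hαβ y, h1, h1', h2]
  have h4 : mk2 x.1 x.2.1.1 x.2.1.2 = mk2 y.1 y.2.1.1 y.2.1.2 := congrArg Subtype.val h2
  rw [h3] at h4
  obtain ⟨h5, h6⟩ := mk2_injective h4
  exact Prod.ext h3 (Subtype.ext (Prod.ext h5 h6))

theorem fact_le_XX (hk : 1 ≤ k) (hr : 3 * k + 1 ≤ r) (ε : ℤˣ) : r ! ≤ 10 * k * XX k ε r := by
  have h1 := xx_ge hk r hr ε
  have hk0 : (0 : ℝ) < k := by exact_mod_cast (by omega : 0 < k)
  have hr0 : (0 : ℝ) < (r ! : ℝ) := by exact_mod_cast r.factorial_pos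
  rw [xx, div_le_div_iff₀ (by positivity) hr0] at h1
  have h2 : (r ! : ℝ) ≤ 10 * k * XX k ε r := by linarith
  exact_mod_cast h2

theorem card_pairs (hk : 1 ≤ k) (hr : 3 * k + 1 ≤ r) :
    t ! * r ! ≤ 10 * k * Nat.card {x : Perm (Fin t) × Perm (Fin r) // Good k x.2 ∧ sign x.1 * sign x.2 = 1} := by
  classical
  have h1 : Nat.card {x : Perm (Fin t) × Perm (Fin r) // Good k x.2 ∧ sign x.1 * sign x.2 = 1} =
      ∑ u : Perm (Fin t), XX k (sign u) r := by
    have h2 : Nat.card {x : Perm (Fin t) × Perm (Fin r) // Good k x.2 ∧ sign x.1 * sign x.2 = 1} =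
        Nat.card (Σ u : Perm (Fin t), {w : Perm (Fin r) // Good k w ∧ sign w = sign u}) := by
      have key : ∀ (a b : ℤˣ), a * b = 1 ↔ b = a := by decide
      refine Nat.card_congr ⟨fun x => ⟨x.1.1, x.1.2, x.2.1, (key _ _).1 x.2.2⟩,
        fun y => ⟨(y.1, y.2.1), y.2.2.1, (key _ _).2 y.2.2.2⟩, fun x => rfl, fun y => rfl⟩
    rw [h2, Nat.card_sigma]
    rfl
  rw [h1, Finset.mul_sum]
  have h3 : t ! = (Finset.univ : Finset (Perm (Fin t))).card := by
    rw [Finset.card_univ, Fintype.card_perm, Fintype.card_fin]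
  rw [h3, ← smul_eq_mul]
  exact Finset.card_nsmul_le_sum _ _ _ fun u _ => fact_le_XX hk hr _

theorem card_type (hk : 1 ≤ k) (ht : t < k) (hn : 4 * k + 1 ≤ n) :
    n ! ≤ 10 * k * Nat.card {g : Perm (Fin n) // sign g = 1 ∧ (sh k g).card = t} := by
  have h1 := count2 (n := n) (t := t) (r := n - t) (k := k) (by omega) ht.le
  have h2 := card_pairs (t := t) (r := n - t) hk (by omega)
  have h3 : 0 < t ! * (n - t)! := Nat.mul_pos (Nat.factorial_pos _) (Nat.factorial_pos _)
  refine Nat.le_of_mul_le_mul_left ?_ h3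
  calc t ! * (n - t)! * n ! ≤ (10 * k * Nat.card {x : Perm (Fin t) × Perm (Fin (n - t)) //
        Good k x.2 ∧ sign x.1 * sign x.2 = 1}) * n ! := Nat.mul_le_mul_right _ h2
    _ = 10 * k * (n ! * Nat.card {x : Perm (Fin t) × Perm (Fin (n - t)) //
        Good k x.2 ∧ sign x.1 * sign x.2 = 1}) := by ring
    _ ≤ 10 * k * (t ! * (n - t)! * Nat.card {g : Perm (Fin n) // sign g = 1 ∧ (sh k g).card = t}) :=
      Nat.mul_le_mul_left _ h1
    _ = _ := by ring

/-- the even permutations without an invariant set of `k` points -/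
def Sx (n k : ℕ) : Set (Perm (Fin n)) := {g | sign g = 1 ∧ ∀ s : Finset (Fin n), s.card = k → ¬ ∀ a, g a ∈ s ↔ a ∈ s}

theorem sub_sh {g : Perm (Fin n)} {s : Finset (Fin n)} (hs : s.card ≤ k) (h : ∀ a, g a ∈ s ↔ a ∈ s) : s ⊆ sh k g := by
  classical
  intro a ha
  rw [mem_sh]
  have h1 : ∃ i ∈ Finset.range (s.card + 1), ∃ j ∈ Finset.range (s.card + 1), i ≠ j ∧ (g ^ i) a = (g ^ j) a := by
    apply Finset.exists_ne_map_eq_of_card_lt_of_maps_to (t := s)
    · rw [Finset.card_range]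
      omega
    · intro i _
      exact (pow_mem_iff h i a).2 ha
  obtain ⟨i, hi, j, hj, hij, h2⟩ := h1
  rw [Finset.mem_range] at hi hj
  rcases lt_or_gt_of_ne hij with h3 | h3
  · refine ⟨j - i, by omega, by omega, ?_⟩
    have h4 : (g ^ i) ((g ^ (j - i)) a) = (g ^ i) a := by
      rw [← Perm.mul_apply, ← pow_add, Nat.add_sub_cancel' h3.le, h2]
    exact (g ^ i).injective h4
  · refine ⟨i - j, by omega, by omega, ?_⟩
    have h4 : (g ^ j) ((g ^ (i - j)) a) = (g ^ j) a := by
      rw [← Perm.mul_apply, ← pow_add, Nat.add_sub_cancel' h3.le, h2]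
    exact (g ^ j).injective h4

/-- the case `4 k + 1 ≤ n` -/
theorem caseA (hk : 1 ≤ k) (hn : 4 * k + 1 ≤ n) : n ! ≤ 10 * Nat.card (Sx n k) := by
  classical
  have h1 : ∑ t ∈ Finset.range k, Nat.card {g : Perm (Fin n) // sign g = 1 ∧ (sh k g).card = t} ≤
      Nat.card (Sx n k) := by
    let B : ℕ → Finset (Perm (Fin n)) := fun t => Finset.univ.filter fun g => sign g = 1 ∧ (sh k g).card = t
    have hB : ∀ t, Nat.card {g : Perm (Fin n) // sign g = 1 ∧ (sh k g).card = t} = (B t).card := by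
      intro t
      rw [← Nat.card_eq_finsetCard]
      refine Nat.card_congr (Equiv.subtypeEquivRight fun x => ?_)
      simp only [B, Finset.mem_filter, Finset.mem_univ, true_and]
    rw [Finset.sum_congr rfl fun t _ => hB t, ← Finset.card_biUnion]
    · rw [← Nat.card_eq_finsetCard]
      refine Nat.card_le_card_of_injective (fun x => ⟨x.1, ?_⟩) ?_
      · obtain ⟨t, ht, hx⟩ := Finset.mem_biUnion.1 x.2
        rw [Finset.mem_range] at ht
        obtain ⟨h2, h3⟩ := (Finset.mem_filter.1 hx).2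
        refine ⟨h2, fun s hs h => ?_⟩
        have h4 := Finset.card_le_card (sub_sh hs.le h)
        omega
      · intro x y h
        exact Subtype.ext (congrArg (fun z => z.1) h)
    · intro i _ j _ hij
      rw [Function.onFun, Finset.disjoint_left]
      intro x hxi hxj
      have h2 := (Finset.mem_filter.1 hxi).2.2
      have h3 := (Finset.mem_filter.1 hxj).2.2
      omega
  have h2 : k * n ! ≤ 10 * k * ∑ t ∈ Finset.range k, Nat.card {g : Perm (Fin n) // sign g = 1 ∧ (sh k g).card = t} := by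
    rw [Finset.mul_sum]
    have h3 : k = (Finset.range k).card := (Finset.card_range k).symm
    conv_lhs => rw [h3]
    rw [← smul_eq_mul]
    exact Finset.card_nsmul_le_sum _ _ _ fun t ht => card_type hk (Finset.mem_range.1 ht) hn
  refine Nat.le_of_mul_le_mul_left ?_ (by omega : 0 < k)
  calc k * n ! ≤ 10 * k * ∑ t ∈ Finset.range k, Nat.card {g : Perm (Fin n) // sign g = 1 ∧ (sh k g).card = t} := h2
    _ ≤ 10 * k * Nat.card (Sx n k) := Nat.mul_le_mul_left _ h1
    _ = k * (10 * Nat.card (Sx n k)) := by ring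

/-- one long cycle -/
theorem card_long (h2k : 2 * k ≤ n) :
    (k - 2) * n ! ≤ 2 * (n * Nat.card (Sx n k)) := by
  classical
  -- the cycle has length `n - i`, `2 ≤ i < k`
  let c : ℕ → Set (Perm (Fin n) × Fin n) := fun i => PS n (n - i - 1) i fun h => sign h = (-1) ^ (n - i - 1)
  have h1 : ∀ i ∈ Finset.Ico 2 k, n ! ≤ 2 * Nat.card (c i) := by
    intro i hi
    rw [Finset.mem_Ico] at hi
    have h2 := count (n := n) (l := n - i - 1) (r := i) (by omega) fun h => sign h = (-1) ^ (n - i - 1)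
    have h3 := card_sign_eq hi.1 ((-1) ^ (n - i - 1))
    have h4 : 0 < i ! := Nat.factorial_pos i
    refine Nat.le_of_mul_le_mul_left ?_ h4
    calc i ! * n ! = 2 * (n ! * Nat.card {h : Perm (Fin i) // sign h = (-1) ^ (n - i - 1)}) := by rw [← h3]; ring
      _ ≤ 2 * (i ! * Nat.card (c i)) := Nat.mul_le_mul_left _ h2
      _ = _ := by ring
  have h2 : ∑ i ∈ Finset.Ico 2 k, Nat.card (c i) ≤ n * Nat.card (Sx n k) := by
    have h5 : n * Nat.card (Sx n k) = Nat.card (Fin n × Sx n k) := by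
      rw [Nat.card_prod, Nat.card_eq_fintype_card (α := Fin n), Fintype.card_fin]
    rw [h5]
    let B : ℕ → Finset (Perm (Fin n) × Fin n) := fun i => Finset.univ.filter fun x => x ∈ c i
    have hB : ∀ i, Nat.card (c i) = (B i).card := by
      intro i
      rw [← Nat.card_eq_finsetCard]
      refine Nat.card_congr (Equiv.subtypeEquivRight fun x => ?_)
      simp only [B, Finset.mem_filter, Finset.mem_univ, true_and]
    rw [Finset.sum_congr rfl fun t _ => hB t, ← Finset.card_biUnion]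
    · rw [← Nat.card_eq_finsetCard]
      refine Nat.card_le_card_of_injective (fun x => (x.1.2, ⟨x.1.1, ?_⟩)) ?_
      · obtain ⟨i, hi, hx⟩ := Finset.mem_biUnion.1 x.2
        rw [Finset.mem_Ico] at hi
        obtain ⟨e, h, hh, hx⟩ := (Finset.mem_filter.1 hx).2
        rw [hx]
        refine ⟨by rw [sign_mk, hh, units_mul_self], fun s hs h => ?_⟩
        exact mk_not_inv (by omega) (by omega) h
      · intro x y h
        have h6 := congrArg Prod.fst h
        have h7 := congrArg (fun t => t.2.1) h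
        exact Subtype.ext (Prod.ext h7 h6)
    · intro i hi j hj hij
      rw [Function.onFun, Finset.disjoint_left]
      intro x hxi hxj
      rw [Finset.mem_coe, Finset.mem_Ico] at hi hj
      obtain ⟨e, h, hh, hx⟩ := (Finset.mem_filter.1 hxi).2
      obtain ⟨e', h', hh', hx'⟩ := (Finset.mem_filter.1 hxj).2
      have p1 := per_mk e h 0
      have p2 := per_mk e' h' 0
      have q1 : mk e h = mk e' h' := by
        have := hx.symm.trans hx'
        exact congrArg Prod.fst this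
      have q2 : e (Sum.inl 0) = e' (Sum.inl 0) := by
        have := hx.symm.trans hx'
        exact congrArg Prod.snd this
      rw [q1, q2] at p1
      have := p1.unique (by omega) (by omega) p2
      omega
  have h3 : (k - 2) * n ! ≤ ∑ i ∈ Finset.Ico 2 k, 2 * Nat.card (c i) := by
    have h4 : k - 2 = (Finset.Ico 2 k).card := (Nat.card_Ico 2 k).symm
    rw [h4, ← smul_eq_mul]
    exact Finset.card_nsmul_le_sum _ _ _ h1
  rw [← Finset.mul_sum] at h3
  exact h3.trans (Nat.mul_le_mul_left _ h2)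

/-- the case `n ≤ 4 k` -/
theorem caseB (h16 : 16 ≤ n) (h2k : 2 * k ≤ n) (hn : n ≤ 4 * k) : n ! ≤ 16 * Nat.card (Sx n k) := by
  have h1 := card_long h2k
  have h2 : n ≤ 8 * (k - 2) := by omega
  refine Nat.le_of_mul_le_mul_left ?_ (by omega : 0 < n)
  calc n * n ! ≤ 8 * (k - 2) * n ! := Nat.mul_le_mul_right _ h2
    _ = 8 * ((k - 2) * n !) := by ring
    _ ≤ 8 * (2 * (n * Nat.card (Sx n k))) := Nat.mul_le_mul_left _ h1
    _ = n * (16 * Nat.card (Sx n k)) := by ring

theorem card_Sx_le (n k : ℕ) :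
    Nat.card (Sx n k) ≤ Nat.card {σ : alternatingGroup (Fin n) // ∀ s : Finset (Fin n), s.card = k → s.image σ ≠ s} := by
  classical
  refine Nat.card_le_card_of_injective (fun g => ⟨⟨g.1, mem_alternatingGroup.2 g.2.1⟩, fun s hs h => ?_⟩) ?_
  · refine g.2.2 s hs fun a => ?_
    have h' : s.image g.1 = s := by
      convert h
    constructor
    · intro ha
      rw [← h'] at ha
      obtain ⟨b, hb, hab⟩ := Finset.mem_image.1 ha
      rw [← g.1.injective hab]
      exact hb
    · intro ha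
      rw [← h']
      exact Finset.mem_image_of_mem _ ha
  · intro x y h
    exact Subtype.ext (congrArg (fun z => z.1.1) h)

/-- **The elements of `A_n` without an invariant set of `k` points.** -/
theorem alt_sets : ∃ c : ℝ, 0 < c ∧ ∃ N0 : ℕ, ∀ n : ℕ, N0 ≤ n → ∀ k : ℕ, 1 ≤ k → 2 * k ≤ n →
    c * (Nat.card (alternatingGroup (Fin n)) : ℝ) ≤
      Nat.card {σ : alternatingGroup (Fin n) // ∀ s : Finset (Fin n), s.card = k → s.image σ ≠ s} := by
  refine ⟨1 / 8, by norm_num, 16, fun n hn k hk h2k => ?_⟩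
  have h1 : n ! ≤ 16 * Nat.card (Sx n k) := by
    by_cases h : 4 * k + 1 ≤ n
    · have := caseA hk h
      omega
    · exact caseB hn h2k (by omega)
  have h2 := card_Sx_le n k
  have h3 := two_mul_card (n := n) (by omega)
  have h4 : Nat.card (alternatingGroup (Fin n)) ≤
      8 * Nat.card {σ : alternatingGroup (Fin n) // ∀ s : Finset (Fin n), s.card = k → s.image σ ≠ s} := by omega
  have h5 : (Nat.card (alternatingGroup (Fin n)) : ℝ) ≤
      8 * Nat.card {σ : alternatingGroup (Fin n) // ∀ s : Finset (Fin n), s.card = k → s.image σ ≠ s} := by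
    exact_mod_cast h4
  linarith

end Cfsg.Agent.H281.BsAlt
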